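import Groth.Agent.LeadFF.Coh
import Groth.Agent.H10Coh.QCohOps
import Groth.Agent.H10Coh.FinType2
import Groth.Agent.H10Coh.SubMod

/-!
# Quotients by ideals of the base and stabilisation of the torsion of a coherent module
-/

set_option autoImplicit false
set_option linter.style.haveILetI false
set_option linter.unusedSectionVars false

noncomputable section

universe u

open AlgebraicGeometry CategoryTheory CategoryTheory.Limits TopologicalSpace Opposite

namespace Groth.Agent.LeadFF.ProIso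

attribute [local instance 10000] H10Coh.hasSheafifyAb H10Coh.hasWeakSheafifyAb H10Coh.hasExtAb H10Coh.enoughInjAb

variable {A : Type u} [CommRing A] {X : Scheme.{u}} [X.Over (Spec (CommRingCat.of A))]

theorem smulMod_zero (M : X.Modules) : Formal.smulMod A M 0 = 0 :=
  hom_ext_sections _ _ fun U m => by
    rw [smulMod_app, map_zero, zero_smul]
    rfl

theorem smulMod_one (M : X.Modules) : Formal.smulMod A M 1 = 𝟙 M :=
  hom_ext_sections _ _ fun U m => by
    rw [smulMod_app, map_one, one_smul]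
    rfl

theorem smulMod_pow_add (M : X.Modules) (g : A) (i j : ℕ) :
    Formal.smulMod A M (g ^ (i + j)) = Formal.smulMod A M (g ^ j) ≫ Formal.smulMod A M (g ^ i) := by
  rw [smulMod_mul, pow_add]

/-- The ideal of the scalars killed after composition with `φ`. -/
def killIdeal {M N : X.Modules} (φ : M ⟶ N) : Ideal A where
  carrier := {a | Formal.smulMod A M a ≫ φ = 0}
  add_mem' {a b} ha hb := by
    show Formal.smulMod A M (a + b) ≫ φ = 0
    rw [smulMod_add, Preadditive.add_comp, ha, hb, add_zero]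
  zero_mem' := by
    show Formal.smulMod A M 0 ≫ φ = 0
    rw [smulMod_zero, zero_comp]
  smul_mem' c a ha := by
    show Formal.smulMod A M (c * a) ≫ φ = 0
    rw [mul_comm, ← smulMod_mul, Category.assoc, ha, comp_zero]

theorem mem_killIdeal {M N : X.Modules} {φ : M ⟶ N} {a : A} :
    a ∈ killIdeal φ ↔ Formal.smulMod A M a ≫ φ = 0 := Iff.rfl

theorem smulFamily_comp {M N : X.Modules} {K : Ideal A} {φ : M ⟶ N} (h : K ≤ killIdeal φ) :
    Formal.smulFamily K M ≫ φ = 0 :=
  Sigma.hom_ext _ _ fun a => by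
    rw [comp_zero, Formal.smulFamily, Sigma.ι_desc_assoc]
    exact h a.2

/-- `M/KM`. -/
abbrev Qt (M : X.Modules) (K : Ideal A) : X.Modules := cokernel (Formal.smulFamily K M)

/-- The projection. -/
abbrev qπ (M : X.Modules) (K : Ideal A) : M ⟶ Qt M K := cokernel.π _

theorem le_killIdeal_qπ (M : X.Modules) (K : Ideal A) : K ≤ killIdeal (qπ M K) := fun a ha => by
  have h := congrArg (fun f => Sigma.ι (fun _ : K => M) ⟨a, ha⟩ ≫ f) (cokernel.condition (Formal.smulFamily K M))
  simp only [Formal.smulFamily, Sigma.ι_desc_assoc, ] at h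
  exact h

variable (M : X.Modules)

/-- The transition maps. -/
abbrev tr {K K' : Ideal A} (h : K ≤ K') : Qt M K ⟶ Qt M K' :=
  cokernel.desc _ (qπ M K') (smulFamily_comp (h.trans (le_killIdeal_qπ M K')))

theorem qπ_tr {K K' : Ideal A} (h : K ≤ K') : qπ M K ≫ tr M h = qπ M K' := cokernel.π_desc _ _ _

theorem tr_tr {K K' K'' : Ideal A} (h : K ≤ K') (h' : K' ≤ K'') : tr M h ≫ tr M h' = tr M (h.trans h') :=
  (cancel_epi (qπ M K)).1 (by rw [reassoc_of% qπ_tr, qπ_tr, qπ_tr])

theorem Hm_qπ_tr {K K' : Ideal A} (h : K ≤ K') (q : ℕ) (x : Coh.HH X M q) :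
    Hm (tr M h) q (Hm (qπ M K) q x) = Hm (qπ M K') q x := by
  rw [← Hm_comp, qπ_tr]

theorem Hm_tr_tr {K K' K'' : Ideal A} (h : K ≤ K') (h' : K' ≤ K'') (q : ℕ) (x : Coh.HH X (Qt M K) q) :
    Hm (tr M h') q (Hm (tr M h) q x) = Hm (tr M (h.trans h')) q x := by
  rw [← Hm_comp, tr_tr]

theorem Hm_smul {N N' : X.Modules} (f : N ⟶ N') (q : ℕ) (a : A) (x : Coh.HH X N q) :
    Hm f q (a • x) = a • Hm f q x := by
  have h1 : Hm f q (Hm (Formal.smulMod A N a) q x) = Hm (Formal.smulMod A N a ≫ f) q x :=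
    (Hm_comp (Formal.smulMod A N a) f q x).symm
  rw [← smulMod_natural f a, Hm_smulMod' N' f q a x, Hm_smulMod N q a x] at h1
  exact h1

theorem Hm_qπ_eq_zero {K : Ideal A} (q : ℕ) {x : Coh.HH X M q}
    (hx : x ∈ K • (⊤ : Submodule A (Coh.HH X M q))) : Hm (qπ M K) q x = 0 := by
  refine Submodule.smul_induction_on (p := fun x => Hm (qπ M K) q x = 0) hx (fun a ha y _ => ?_)
    fun a b ha hb => by rw [map_add, ha, hb, add_zero]
  exact (Hm_comp (Formal.smulMod A M a) _ q y).symm.trans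
    ((congrArg (fun φ => Hm φ q y) (mem_killIdeal.1 (le_killIdeal_qπ M K ha))).trans (Hm_zero q y))

theorem isCoh_Qt [IsNoetherian X] (hM : Coh.IsCoh M) (K : Ideal A) : Coh.IsCoh (Qt M K) := by
  haveI : M.IsQuasicoherent := hM.1
  exact H10Coh.isCoh_cokernel _ ((H10Coh.isQuasicoherent_coproduct _ fun _ => hM.1)) hM

/-- The torsion of a coherent module on a Noetherian scheme stabilises. -/
theorem exists_stable [IsNoetherian X] {N : X.Modules} (hN : Coh.IsCoh N) (g : A) :
    ∃ c, ∀ c', c ≤ c' → ∀ m,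
      kernel.ι (Formal.smulMod A N (g ^ m)) ≫ Formal.smulMod A N (g ^ c') = 0 := by
  classical
  haveI : N.IsQuasicoherent := hN.1
  let π := X ↘ Spec (CommRingCat.of A)
  have hU : ∀ U : X.Opens, IsAffineOpen U → ∃ c, ∀ m (s : Γ(N, U)),
      scal π U (g ^ m) • s = 0 → scal π U (g ^ c) • s = 0 := fun U hU => by
    haveI := IsLocallyNoetherian.component_noetherian (X := X) ⟨U, hU⟩
    haveI : Module.Finite Γ(X, U) Γ(N, U) := H10Coh.finite_sections N hN.2 hU
    let k : ℕ → Submodule Γ(X, U) Γ(N, U) := fun e => LinearMap.ker (LinearMap.lsmul Γ(X, U) Γ(N, U) (scal π U (g ^ e)))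
    let K : ℕ →o Submodule Γ(X, U) Γ(N, U) :=
      ⟨k, fun i j hij s hs => by
          have hs' : scal π U (g ^ i) • s = 0 := hs
          show scal π U (g ^ j) • s = 0
          rw [← Nat.sub_add_cancel hij, pow_add, map_mul, mul_smul, hs', smul_zero]⟩
    obtain ⟨c, hc⟩ := monotone_stabilizes_iff_noetherian.2 inferInstance K
    refine ⟨c, fun m s hs => ?_⟩
    have h1 : s ∈ K (max m c) := K.2 (le_max_left m c) (show s ∈ K m from hs)
    rw [← hc _ (le_max_right m c)] at h1
    exact h1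
  choose U hU' hxU using fun x : X => exists_isAffineOpen_mem_and_subset (U := (⊤ : X.Opens)) (x := x) trivial
  obtain ⟨T, hT⟩ := isCompact_univ.elim_finite_subcover (fun x : X => (U x : Set X)) (fun x => (U x).2)
    fun x _ => Set.mem_iUnion.2 ⟨x, (hxU x).1⟩
  choose c hc using fun x : X => hU (U x) (hU' x)
  refine ⟨T.sup c, fun c' hc' m => hom_ext_sections _ _ fun W s => ?_⟩
  refine TopCat.Sheaf.eq_of_locally_eq' (H10Coh.sheafOf N)
    (fun V : {V : X.Opens // ∃ x ∈ T, ∃ t : Γ(X, U x), V = X.basicOpen t ∧ V ≤ W} => V.1) W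
    (fun V => homOfLE V.2.choose_spec.2.choose_spec.2) ?_ _ _ fun V => ?_
  · intro z hz
    obtain ⟨x, hx, hzx⟩ := Set.mem_iUnion₂.1 (hT (Set.mem_univ z))
    obtain ⟨t, htle, hzt⟩ := (hU' x).exists_basicOpen_le (V := W) ⟨z, hz⟩ hzx
    exact Opens.mem_iSup.2 ⟨⟨X.basicOpen t, x, hx, t, rfl, htle⟩, hzt⟩
  obtain ⟨D, x, hx, t, rfl, htW⟩ := V
  let K := kernel (Formal.smulMod A N (g ^ m))
  let ι : K ⟶ N := kernel.ι _
  let s₀ := K.presheaf.map (homOfLE htW).op s
  haveI : K.IsQuasicoherent := H10Coh.isQuasicoherent_kernel _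
  obtain ⟨i, σ, hσ⟩ := H10Coh.exists_pow_smul_eq_res K (hU' x) t s₀
  have h1 : scal π (U x) (g ^ m) • ι.app (U x) σ = 0 := by
    rw [← smulMod_app]
    exact (congr($(congrArg (fun φ => Scheme.Modules.Hom.app φ (U x))
      (kernel.condition (Formal.smulMod A N (g ^ m)))) σ))
  have h2 : scal π (U x) (g ^ c') • ι.app (U x) σ = 0 := by
    rw [show c' = (c' - c x) + c x by have := Finset.le_sup (f := c) hx; omega, pow_add, map_mul, mul_smul,
      hc x m _ h1, smul_zero]
  have h3 : scal π (X.basicOpen t) (g ^ c') • ι.app (X.basicOpen t) s₀ = 0 := by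
    have hunit : IsUnit (X.presheaf.map (homOfLE (X.basicOpen_le t)).op (t ^ i)) := by
      rw [map_pow]
      exact (RingedSpace.isUnit_res_basicOpen _ _).pow i
    refine hunit.smul_left_cancel.1 ?_
    rw [smul_zero, smul_comm, ← Scheme.Modules.Hom.app_smul, ← hσ]
    have h4 := congrArg (N.presheaf.map (homOfLE (X.basicOpen_le t)).op) h2
    rw [Scheme.Modules.map_smul, map_scal, map_zero] at h4
    refine (congrArg (scal π (X.basicOpen t) (g ^ c') • ·) ?_).trans h4
    exact congr($((Scheme.Modules.Hom.mapPresheaf ι).naturality (homOfLE (X.basicOpen_le t)).op) σ)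
  show N.presheaf.map (homOfLE htW).op ((ι ≫ Formal.smulMod A N (g ^ c')).app W s) = N.presheaf.map _ _
  refine (congr($((Scheme.Modules.Hom.mapPresheaf (ι ≫ Formal.smulMod A N (g ^ c'))).naturality
    (homOfLE htW).op) s)).symm.trans ?_
  exact h3.trans (map_zero _).symm

end Groth.Agent.LeadFF.ProIso
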