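import Groth.Agent.LeadFF.ProIso.Step
import Groth.Agent.LeadFF.Limit
import Groth.Agent.H24Lim.Tower

/-!
# The completion of `H^q(X, M)` and the system `H^q(X, M/I^n M)` when the `H^q(X, M)` are finite
-/

set_option autoImplicit false
set_option linter.style.haveILetI false
set_option linter.unusedSectionVars false

noncomputable section

universe u

open AlgebraicGeometry CategoryTheory CategoryTheory.Limits TopologicalSpace Opposite

namespace Groth.Agent.LeadFF.ProIso



variable {A : Type u} [CommRing A] {X : Scheme.{u}} [X.Over (Spec (CommRingCat.of A))] (I : Ideal A)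
  (M : X.Modules) (p : ℕ)

theorem toHH_mem_img (y : Coh.HH X M p) (L n : ℕ) :
    Formal.toHHmodPow I M p n y ∈ H24Lim.img (fun n => Formal.HHmodPowTrans I M p n) L n := by
  induction L generalizing n with
  | zero => trivial
  | succ L ih => exact ⟨_, ih (n + 1), trans_toHH I M p n y⟩

theorem lim_mem_img (z : Formal.HHlim I M p) (L n : ℕ) :
    (z : ∀ n, Formal.HHmodPow I M p n) n ∈ H24Lim.img (fun n => Formal.HHmodPowTrans I M p n) L n := by
  induction L generalizing n with
  | zero => trivial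
  | succ L ih => exact ⟨_, ih (n + 1), z.2 n⟩

theorem exists_of_mem_img (L : ℕ) : ∀ n k, n + L = k → ∀ (h : I ^ (k + 1) ≤ I ^ (n + 1)),
    ∀ x ∈ H24Lim.img (fun n => Formal.HHmodPowTrans I M p n) L n,
      ∃ w : Coh.HH X (Qt M (I ^ (k + 1))) p, Hm (tr M h) p w = x := by
  induction L with
  | zero =>
    intro n k hk h x _
    obtain rfl : n = k := by omega
    refine ⟨x, ?_⟩
    rw [show tr M h = 𝟙 _ from (cancel_epi (qπ M (I ^ (n + 1)))).1 ((qπ_tr M h).trans (Category.comp_id _).symm),
      Hm_id]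
  | succ L ih =>
    intro n k hk h x hx
    obtain ⟨x', hx', rfl⟩ := AddSubgroup.mem_map.1 hx
    obtain ⟨w, rfl⟩ := ih (n + 1) k (by omega) (Ideal.pow_le_pow_right (by omega)) x' hx'
    exact ⟨w, (Hm_tr_tr M _ (Ideal.pow_le_pow_right (Nat.le_succ (n + 1))) p w).symm⟩

variable (hS : PS M I)

include hS in
theorem exists_img_range (n : ℕ) : ∃ N, ∀ L, N ≤ L → ∀ x ∈ H24Lim.img (fun n => Formal.HHmodPowTrans I M p n) L n,
    ∃ y, Formal.toHHmodPow I M p n y = x := by
  obtain ⟨N, hN, hy⟩ := hS p (n + 1)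
  refine ⟨N, fun L hL x hx => ?_⟩
  obtain ⟨w, rfl⟩ := exists_of_mem_img I M p L n (n + L) rfl (Ideal.pow_le_pow_right (by omega)) x hx
  obtain ⟨y, hy⟩ := hy (Hm (tr M (Ideal.pow_le_pow_right (by omega : N ≤ n + L + 1))) p w)
  exact ⟨y, hy.trans (Hm_tr_tr M _ _ p w)⟩

include hS in
theorem surjective_towerDiff :
    Function.Surjective (Formal2.towerDiff (fun n => Formal.HHmodPow I M p n)
      (fun n => Formal.HHmodPowTrans I M p n)) := by
  refine H24Lim.surjective_towerDiff _ fun n => ?_
  obtain ⟨N, hN⟩ := exists_img_range I M p hS n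
  refine ⟨N, fun L hL => le_antisymm (H24Lim.img_antitone _ n hL) fun x hx => ?_⟩
  obtain ⟨y, rfl⟩ := hN N le_rfl x hx
  exact toHH_mem_img I M p y L n

theorem fromCompletion_injective (hI : PI M I) : Function.Injective (fromCompletion I M p) := by
  refine (injective_iff_map_eq_zero _).2 fun x hx => ?_
  obtain ⟨f, rfl⟩ := AdicCompletion.mk_surjective I _ x
  refine AdicCompletion.mk_zero_of I _ f ⟨0, fun k _ => ?_⟩
  obtain ⟨n, hn, hni⟩ := hI.mono p k (k + 1)
  obtain ⟨m, rfl⟩ : ∃ m, n = m + 1 := ⟨n - 1, by omega⟩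
  exact ⟨m + 1, by omega, k, le_rfl, hni _ (congrFun (congrArg Subtype.val hx) m)⟩

include hS in
theorem fromCompletion_surjective (hI : PI M I) : Function.Surjective (fromCompletion I M p) := by
  intro z
  have hy : ∀ n, ∃ y, Formal.toHHmodPow I M p n y = (z : ∀ n, Formal.HHmodPow I M p n) n := fun n => by
    obtain ⟨N, hN⟩ := exists_img_range I M p hS n
    exact hN N le_rfl _ (lim_mem_img I M p z N n)
  choose y hy using hy
  have key : ∀ n j, n ≤ j → Formal.toHHmodPow I M p n (y j) = (z : ∀ n, Formal.HHmodPow I M p n) n := by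
    intro n j hj
    obtain ⟨d, rfl⟩ := Nat.exists_eq_add_of_le hj
    clear hj
    induction d generalizing n with
    | zero => exact hy n
    | succ d ih =>
      rw [← trans_toHH I M p n, show n + (d + 1) = n + 1 + d by omega, ih (n + 1)]
      exact z.2 n
  choose ν hν hνi using fun k => hI.mono p k (k + 1)
  let μ : ℕ → ℕ := fun k => (Finset.range (k + 1)).sup ν
  have hμ : ∀ k, ν k ≤ μ k := fun k => Finset.le_sup (Finset.self_mem_range_succ k)
  have hμ' : ∀ k, μ k ≤ μ (k + 1) := fun k => Finset.sup_mono (Finset.range_mono (Nat.le_succ _))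
  have hcauchy : ∀ k, y (μ k) ≡ y (μ (k + 1)) [SMOD (I ^ k • ⊤ : Submodule A (Coh.HH X M p))] := by
    intro k
    rw [SModEq.sub_mem]
    refine hνi k _ ?_
    obtain ⟨m, hm⟩ : ∃ m, ν k = m + 1 := ⟨ν k - 1, by have := hν k; omega⟩
    rw [hm]
    show Formal.toHHmodPow I M p m (y (μ k) - y (μ (k + 1))) = 0
    have h1 := hμ k
    have h2 := hμ' k
    rw [map_sub, key m (μ k) (by omega), key m (μ (k + 1)) (by omega), sub_self]
  refine ⟨AdicCompletion.mk I _ (AdicCompletion.AdicCauchySequence.mk I _ (fun k => y (μ k)) hcauchy),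
    Subtype.ext (funext fun n => ?_)⟩
  show Formal.toHHmodPow I M p n (y (μ (n + 1))) = _
  exact key n _ (by have := hν (n + 1); have := hμ (n + 1); omega)

end Groth.Agent.LeadFF.ProIso
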