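import Groth.Agent.LeadFF.ProIso.Quot
import Mathlib.RingTheory.Ideal.Operations

/-!
# `(H^q(X, M)/I^n)_n → (H^q(X, M/I^n M))_n` is a pro-isomorphism when the `H^q(X, M)` are Noetherian

Induction on the number of generators of `I`: for one more generator `g` the sequences
`0 → N/N[g^c] → N → N/g^m N → 0` show that the obstructions are killed by a bounded power of `g`.
-/

set_option autoImplicit false
set_option linter.style.haveILetI false
set_option linter.unusedSectionVars false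

noncomputable section

universe u

open AlgebraicGeometry CategoryTheory CategoryTheory.Limits TopologicalSpace Opposite

namespace Groth.Agent.LeadFF.ProIso

attribute [local instance 10000] H10Coh.hasSheafifyAb H10Coh.hasWeakSheafifyAb H10Coh.hasExtAb H10Coh.enoughInjAb

variable {A : Type u} [CommRing A] {X : Scheme.{u}} [X.Over (Spec (CommRingCat.of A))]

/-- The kernels are small. -/
def PI (M : X.Modules) (J : Ideal A) : Prop :=
  ∀ q k, ∃ n, ∀ x : Coh.HH X M q, Hm (qπ M (J ^ n)) q x = 0 → x ∈ J ^ k • (⊤ : Submodule A (Coh.HH X M q))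

/-- The images from far away come from `H^q(X, M)`. -/
def PS (M : X.Modules) (J : Ideal A) : Prop :=
  ∀ q n, ∃ (N : ℕ) (h : n ≤ N), ∀ x : Coh.HH X (Qt M (J ^ N)) q,
    ∃ y, Hm (qπ M (J ^ n)) q y = Hm (tr M (Ideal.pow_le_pow_right h)) q x

theorem PI.mono {M : X.Modules} {J : Ideal A} (h : PI M J) (q k n₀ : ℕ) :
    ∃ n, n₀ ≤ n ∧ ∀ x : Coh.HH X M q, Hm (qπ M (J ^ n)) q x = 0 → x ∈ J ^ k • (⊤ : Submodule A (Coh.HH X M q)) := by
  obtain ⟨n, hn⟩ := h q k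
  refine ⟨max n₀ n, le_max_left _ _, fun x hx => hn x ?_⟩
  rw [← Hm_qπ_tr M (Ideal.pow_le_pow_right (I := J) (le_max_right n₀ n)), hx, map_zero]

theorem bot_pow_le (M : X.Modules) (n : ℕ) : IsIso (qπ M ((⊥ : Ideal A) ^ (n + 1))) := by
  have h : Formal.smulFamily ((⊥ : Ideal A) ^ (n + 1)) M = 0 := Sigma.hom_ext _ _ fun a => by
    rw [comp_zero, Formal.smulFamily, Sigma.ι_desc]
    have ha : (a : A) = 0 := Ideal.mem_bot.1 (Ideal.pow_le_self (Nat.succ_ne_zero n) a.2)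
    rw [ha, smulMod_zero]
  have h2 : ∃ e : Qt M ((⊥ : Ideal A) ^ (n + 1)) ≅ M, e.inv = qπ M _ :=
    ⟨cokernelIsoOfEq h ≪≫ cokernelZeroIsoTarget, by simp⟩
  obtain ⟨e, he⟩ := h2
  exact he ▸ inferInstance

theorem PI_bot (M : X.Modules) : PI M (⊥ : Ideal A) := fun q k => ⟨0 + 1, fun x hx => by
  haveI := bot_pow_le (A := A) M 0
  have h := congrArg (Hm (inv (qπ M ((⊥ : Ideal A) ^ (0 + 1)))) q) hx
  rw [← Hm_comp, IsIso.hom_inv_id, Hm_id, map_zero] at h
  rw [h]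
  exact zero_mem _⟩

theorem PS_bot (M : X.Modules) : PS M (⊥ : Ideal A) := fun q n => ⟨n + 1, n.le_succ, fun x => by
  haveI := bot_pow_le (A := A) M n
  refine ⟨Hm (inv (qπ M ((⊥ : Ideal A) ^ (n + 1)))) q x, ?_⟩
  rw [← Hm_qπ_tr M (Ideal.pow_le_pow_right n.le_succ), ← Hm_comp _ (qπ M _), IsIso.inv_hom_id, Hm_id]⟩

/-- `N/N[g^c]`. -/
abbrev G (N : X.Modules) (g : A) (c : ℕ) : X.Modules := cokernel (kernel.ι (Formal.smulMod A N (g ^ c)))

section

variable {N : X.Modules} {g : A} {c : ℕ}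
  (hc : ∀ c', c ≤ c' → ∀ m, kernel.ι (Formal.smulMod A N (g ^ m)) ≫ Formal.smulMod A N (g ^ c') = 0)

/-- Multiplication by `g^m` on `N/N[g^c]` with values in `N`. -/
abbrev aMap {m : ℕ} (hm : c ≤ m) : G N g c ⟶ N :=
  cokernel.desc _ (Formal.smulMod A N (g ^ m)) (hc m hm c)

theorem π_aMap {m : ℕ} (hm : c ≤ m) :
    cokernel.π (kernel.ι (Formal.smulMod A N (g ^ c))) ≫ aMap hc hm = Formal.smulMod A N (g ^ m) :=
  cokernel.π_desc _ _ _

theorem mono_aMap {m : ℕ} (hm : c ≤ m) : Mono (aMap hc hm) :=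
  Preadditive.mono_of_cancel_zero _ fun {P} h hh => by
    obtain ⟨P', π, hπ, k, hk⟩ := surjective_up_to_refinements_of_epi
      (cokernel.π (kernel.ι (Formal.smulMod A N (g ^ c)))) h
    have h1 : k ≫ Formal.smulMod A N (g ^ m) = 0 := by
      rw [← π_aMap hc hm, ← reassoc_of% hk, hh, comp_zero]
    have h2 : k ≫ Formal.smulMod A N (g ^ c) = 0 := by
      rw [← kernel.lift_ι _ k h1, Category.assoc, hc c le_rfl m, comp_zero]
    haveI := hπ
    rw [← cancel_epi π, comp_zero, hk, ← kernel.lift_ι _ k h2, Category.assoc, cokernel.condition, comp_zero]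

theorem aMap_factor {m : ℕ} (hm : c ≤ m) :
    aMap hc hm = aMap hc le_rfl ≫ Formal.smulMod A N (g ^ (m - c)) :=
  (cancel_epi (cokernel.π _)).1 (by
    rw [π_aMap, reassoc_of% π_aMap, smulMod_mul, ← pow_add, Nat.sub_add_cancel hm])

theorem aMap_π : aMap hc le_rfl ≫ cokernel.π (kernel.ι (Formal.smulMod A N (g ^ c))) =
    Formal.smulMod A (G N g c) (g ^ c) :=
  (cancel_epi (cokernel.π _)).1 (by rw [reassoc_of% π_aMap, smulMod_natural])

end

variable (M : X.Modules) (J : Ideal A) (g : A)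

/-- `M/J^n M` modulo `g^m`. -/
abbrev Kl (n m : ℕ) : Ideal A := J ^ n ⊔ Ideal.span {g ^ m}

theorem pow_sup_le (n m : ℕ) : (J ⊔ Ideal.span {g}) ^ (n + m) ≤ Kl J g n m := by
  refine Ideal.sup_pow_add_le_pow_sup_pow.trans ?_
  rw [Ideal.span_singleton_pow]

theorem Kl_le {n m n₀ : ℕ} (hn : n₀ ≤ n) (hm : n₀ ≤ m) : Kl J g n m ≤ (J ⊔ Ideal.span {g}) ^ n₀ := by
  refine sup_le ((Ideal.pow_le_pow_right hn).trans (Ideal.pow_right_mono le_sup_left n₀)) ?_
  rw [← Ideal.span_singleton_pow]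
  exact (Ideal.pow_le_pow_right hm).trans (Ideal.pow_right_mono le_sup_right n₀)

theorem Kl_le_Kl {n m n' m' : ℕ} (hn : n' ≤ n) (hm : m' ≤ m) : Kl J g n m ≤ Kl J g n' m' :=
  sup_le_sup (Ideal.pow_le_pow_right hn)
    (Ideal.span_singleton_le_span_singleton.2 (pow_dvd_pow g hm))

variable {n c : ℕ}
  (hc : ∀ c', c ≤ c' → ∀ m,
    kernel.ι (Formal.smulMod A (Qt M (J ^ n)) (g ^ m)) ≫ Formal.smulMod A (Qt M (J ^ n)) (g ^ c') = 0)

theorem smulMod_tr {m : ℕ} :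
    Formal.smulMod A (Qt M (J ^ n)) (g ^ m) ≫ tr M (le_sup_left : J ^ n ≤ Kl J g n m) = 0 := by
  refine (cancel_epi (qπ M (J ^ n))).1 ?_
  rw [comp_zero, ← Category.assoc, smulMod_natural, Category.assoc, qπ_tr]
  exact le_killIdeal_qπ M _ (Ideal.mem_sup_right (Ideal.mem_span_singleton_self _))

/-- `0 → N/N[g^c] → N → N/g^m N → 0` for `N = M/J^n M`. -/
abbrev gSeq {m : ℕ} (hm : c ≤ m) : ShortComplex X.Modules :=
  ShortComplex.mk (aMap hc hm) (tr M (le_sup_left : J ^ n ≤ Kl J g n m))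
    ((cancel_epi (cokernel.π _)).1 (by rw [reassoc_of% π_aMap, smulMod_tr, comp_zero]))

theorem gSeq_shortExact {m : ℕ} (hm : c ≤ m) : (gSeq M J g hc hm).ShortExact := by
  haveI : Mono (gSeq M J g hc hm).f := mono_aMap hc hm
  haveI : Epi (gSeq M J g hc hm).g := by
    refine epi_of_epi_fac (f := qπ M (J ^ n)) (h := qπ M (Kl J g n m)) ?_
    exact qπ_tr M le_sup_left
  refine { exact := ShortComplex.exact_of_g_is_cokernel _ (CokernelCofork.IsColimit.ofπ' _ _ fun {Z} k hk => ?_) }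
  have hk' : Kl J g n m ≤ killIdeal (qπ M (J ^ n) ≫ k) := by
    refine sup_le (fun a ha => ?_) ((Ideal.span_singleton_le_iff_mem _).2 ?_)
    · rw [mem_killIdeal, ← Category.assoc, mem_killIdeal.1 (le_killIdeal_qπ M _ ha), zero_comp]
    · rw [mem_killIdeal, ← Category.assoc, ← smulMod_natural, Category.assoc, ← π_aMap hc hm, Category.assoc]
      show qπ M (J ^ n) ≫ _ ≫ (gSeq M J g hc hm).f ≫ k = 0
      rw [hk, comp_zero, comp_zero]
  exact ⟨cokernel.desc _ (qπ M (J ^ n) ≫ k) (smulFamily_comp hk'),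
    (cancel_epi (qπ M (J ^ n))).1 (by rw [reassoc_of% (qπ_tr M (le_sup_left : J ^ n ≤ Kl J g n m)), cokernel.π_desc])⟩

omit hc in
theorem exists_torsion_bound {H : Type u} [AddCommGroup H] [Module A H] [IsNoetherian A H] (S : Submodule A H) :
    ∃ e, ∀ i (z : H), g ^ i • z ∈ S → g ^ e • z ∈ S := by
  let K : ℕ →o Submodule A H :=
    ⟨fun i => S.comap (LinearMap.lsmul A H (g ^ i)), fun i j hij z hz => by
      have hz' : g ^ i • z ∈ S := hz
      show g ^ j • z ∈ S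
      rw [← Nat.sub_add_cancel hij, pow_add, mul_smul]
      exact S.smul_mem _ hz'⟩
  obtain ⟨e, he⟩ := monotone_stabilizes_iff_noetherian.2 inferInstance K
  refine ⟨e, fun i z hz => ?_⟩
  have h : z ∈ K (max i e) := K.2 (le_max_left i e) (show z ∈ K i from hz)
  rw [← he _ (le_max_right i e)] at h
  exact h

omit hc in
theorem PI_step [IsNoetherian X] (hM : Coh.IsCoh M) (hI : PI M J) (hS : PS M J) :
    PI M (J ⊔ Ideal.span {g}) := fun q k => by
  obtain ⟨n, hn⟩ := hI q k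
  obtain ⟨n', hn', hns⟩ := hS q n
  obtain ⟨c, hc⟩ := exists_stable (isCoh_Qt M hM (J ^ n')) g
  refine ⟨n' + (c + k), fun x hx => ?_⟩
  have h1 : Hm (qπ M (Kl J g n' (c + k))) q x = 0 := by
    rw [← Hm_qπ_tr M (pow_sup_le J g n' (c + k)), hx, map_zero]
  have hm : c ≤ c + k := Nat.le_add_right c k
  obtain ⟨y, hy⟩ := exists_Hm_f (gSeq_shortExact M J g hc hm) q (Hm (qπ M (J ^ n')) q x)
    (by
      show Hm (tr M le_sup_left) q _ = 0
      rw [Hm_qπ_tr, h1])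
  have hy' : Hm (qπ M (J ^ n')) q x = g ^ k • Hm (aMap hc le_rfl) q y := by
    rw [← hy]
    show Hm (aMap hc hm) q y = _
    rw [aMap_factor hc hm, Hm_smulMod', Nat.add_sub_cancel_left]
  obtain ⟨z, hz⟩ := hns (Hm (aMap hc le_rfl) q y)
  have h2 : x - g ^ k • z ∈ J ^ k • (⊤ : Submodule A (Coh.HH X M q)) := hn _ (by
    rw [map_sub, Hm_smul, hz, ← Hm_smul, ← hy', Hm_qπ_tr, sub_self])
  have e := add_mem (Submodule.smul_mono_left (Ideal.pow_right_mono (le_sup_left : J ≤ J ⊔ Ideal.span {g}) k) h2)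
    (Submodule.smul_mem_smul (Ideal.pow_mem_pow (Ideal.mem_sup_right (Ideal.mem_span_singleton_self g) :
      g ∈ J ⊔ Ideal.span {g}) k) (Submodule.mem_top : z ∈ (⊤ : Submodule A (Coh.HH X M q))))
  rwa [sub_add_cancel] at e

omit hc in
theorem PS_step [IsNoetherian X] (hM : Coh.IsCoh M) (hfin : ∀ q, IsNoetherian A (Coh.HH X M q))
    (hI : PI M J) (hS : PS M J) : PS M (J ⊔ Ideal.span {g}) := fun q n₀ => by
  obtain ⟨n, hn, hns⟩ := hS q n₀
  obtain ⟨n₁, hn₁, hn₁i⟩ := hI.mono (q + 1) n n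
  obtain ⟨n₂, hn₂, hn₂s⟩ := hS (q + 1) n₁
  obtain ⟨ca, hca⟩ := exists_stable (isCoh_Qt M hM (J ^ n)) g
  obtain ⟨cb, hcb⟩ := exists_stable (isCoh_Qt M hM (J ^ n₂)) g
  let c := max ca cb
  have h1c : ∀ c', c ≤ c' → _ := fun c' h => hca c' ((le_max_left ca cb).trans h)
  have h2c : ∀ c', c ≤ c' → _ := fun c' h => hcb c' ((le_max_right ca cb).trans h)
  haveI := hfin (q + 1)
  obtain ⟨e, he⟩ := exists_torsion_bound g (J ^ n • (⊤ : Submodule A (Coh.HH X M (q + 1))))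
  let m' := max c n₀
  let m := m' + (c + e)
  have hm' : c ≤ m' := le_max_left _ _
  have hm : c ≤ m := hm'.trans (Nat.le_add_right _ _)
  have hmm : m' ≤ m := Nat.le_add_right _ _
  have hn12 : n ≤ n₂ := hn₁.trans hn₂
  refine ⟨n₂ + m, (hn.trans hn12).trans (Nat.le_add_right _ _), fun x => ?_⟩
  let x₂ := Hm (tr M (pow_sup_le J g n₂ m)) q x
  let φ₀ : G (Qt M (J ^ n₂)) g c ⟶ G (Qt M (J ^ n)) g c :=
    cokernel.map _ _ (kernel.map _ _ (tr M (Ideal.pow_le_pow_right hn12)) (tr M (Ideal.pow_le_pow_right hn12))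
      (smulMod_natural _ _).symm) (tr M (Ideal.pow_le_pow_right hn12)) (kernel.lift_ι _ _ _).symm
  have hφ₀ : cokernel.π _ ≫ φ₀ = tr M (Ideal.pow_le_pow_right hn12) ≫ cokernel.π _ := cokernel.π_desc _ _ _
  have hφa : φ₀ ≫ aMap h1c le_rfl = aMap h2c le_rfl ≫ tr M (Ideal.pow_le_pow_right hn12) := by
    refine (cancel_epi (cokernel.π _)).1 ?_
    rw [reassoc_of% hφ₀, π_aMap, reassoc_of% π_aMap, smulMod_natural]
  let τ : gSeq M J g h2c hm ⟶ gSeq M J g h1c hm' :=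
    ShortComplex.homMk (φ₀ ≫ Formal.smulMod A _ (g ^ (c + e))) (tr M (Ideal.pow_le_pow_right hn12))
      (tr M (Kl_le_Kl J g hn12 hmm))
      (by
        show (φ₀ ≫ Formal.smulMod A _ (g ^ (c + e))) ≫ aMap h1c hm' = aMap h2c hm ≫ tr M (Ideal.pow_le_pow_right hn12)
        refine (cancel_epi (cokernel.π _)).1 ?_
        rw [Category.assoc, ← smulMod_natural, reassoc_of% hφ₀, reassoc_of% π_aMap, reassoc_of% π_aMap,
          smulMod_mul, ← pow_add, ← smulMod_natural, show c + e + m' = m from Nat.add_comm _ _])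
      (by
        show tr M (Ideal.pow_le_pow_right hn12) ≫ tr M le_sup_left = tr M le_sup_left ≫ tr M (Kl_le_Kl J g hn12 hmm)
        rw [tr_tr, tr_tr])
  let δ := dl (gSeq_shortExact M J g h2c hm) q x₂
  let w := Hm (aMap h2c le_rfl) (q + 1) δ
  have hw : g ^ (m - c) • w = 0 := by
    rw [← Hm_smulMod' _ (aMap h2c le_rfl) (q + 1) (g ^ (m - c)) δ, ← aMap_factor h2c hm]
    exact Hm_dl (gSeq_shortExact M J g h2c hm) q x₂
  obtain ⟨z, hz⟩ := hn₂s w
  have hz1 : g ^ (m - c) • z ∈ J ^ n • (⊤ : Submodule A (Coh.HH X M (q + 1))) := hn₁i _ (by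
    rw [Hm_smul, hz, ← Hm_smul, hw, map_zero])
  have hz2 : g ^ e • Hm (tr M (Ideal.pow_le_pow_right hn12)) (q + 1) w = 0 := by
    rw [← Hm_tr_tr M (Ideal.pow_le_pow_right hn₂) (Ideal.pow_le_pow_right hn₁), ← hz, Hm_qπ_tr, ← Hm_smul]
    exact Hm_qπ_eq_zero M (q + 1) (he _ _ hz1)
  have hδ : dl (gSeq_shortExact M J g h1c hm') q (Hm τ.τ₃ q x₂) = 0 := by
    rw [dl_natural (gSeq_shortExact M J g h2c hm) _ τ q x₂]
    show Hm (φ₀ ≫ Formal.smulMod A _ (g ^ (c + e))) (q + 1) δ = 0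
    rw [Hm_smulMod', pow_add, mul_comm, mul_smul, ← Hm_smulMod (G (Qt M (J ^ n)) g c) (q + 1) (g ^ c),
      ← aMap_π h1c, Hm_comp, ← Hm_comp φ₀ (aMap h1c le_rfl), hφa, Hm_comp, ← Hm_smul, hz2, map_zero]
  obtain ⟨v, hv⟩ := exists_Hm_g (gSeq_shortExact M J g h1c hm') q _ hδ
  obtain ⟨y, hy⟩ := hns v
  refine ⟨y, ?_⟩
  have hle : Kl J g n m' ≤ (J ⊔ Ideal.span {g}) ^ n₀ := Kl_le J g hn (le_max_right _ _)
  rw [← Hm_qπ_tr M (Ideal.pow_right_mono (le_sup_left : J ≤ J ⊔ Ideal.span {g}) n₀), hy, Hm_tr_tr]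
  have h3 := congrArg (Hm (tr M hle) q) hv
  rw [show (gSeq M J g h1c hm').g = tr M le_sup_left from rfl, Hm_tr_tr,
    show τ.τ₃ = tr M (Kl_le_Kl J g hn12 hmm) from rfl, Hm_tr_tr, Hm_tr_tr] at h3
  exact h3

omit hc in
theorem PI_and_PS [IsNoetherian X] (hM : Coh.IsCoh M) (hfin : ∀ q, IsNoetherian A (Coh.HH X M q))
    (hJ : J.FG) : PI M J ∧ PS M J := by
  classical
  obtain ⟨S, rfl⟩ := hJ
  induction S using Finset.induction_on with
  | empty =>
    rw [Finset.coe_empty, Ideal.span_empty]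
    exact ⟨PI_bot M, PS_bot M⟩
  | @insert a S _ ih =>
    rw [Finset.coe_insert, Ideal.span_insert, sup_comm]
    exact ⟨PI_step M _ a hM ih.1 ih.2, PS_step M _ a hM hfin ih.1 ih.2⟩

end Groth.Agent.LeadFF.ProIso
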